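import Mathlib

/-!
# Gaschütz's theorem for abelian normal subgroups
-/

set_option autoImplicit false
set_option linter.style.haveILetI false

open scoped Pointwise

namespace CfsgLib.Gaschutz

universe u

variable {G : Type u} [Group G]

section Aux

variable (K : Subgroup G) [K.Normal]

/-- Conjugation of elements of a normal subgroup, as a function. -/
def cj (g : G) (k : K) : K := ⟨g * (k : G) * g⁻¹, (inferInstance : K.Normal).conj_mem (k : G) k.2 g⟩

theorem coe_cj (g : G) (k : K) : ((cj K g k : K) : G) = g * (k : G) * g⁻¹ := rfl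

theorem cj_mul (g : G) (k l : K) : cj K g (k * l) = cj K g k * cj K g l :=
  Subtype.ext (by simp only [coe_cj, Subgroup.coe_mul]; group)

theorem cj_cj (g h : G) (k : K) : cj K g (cj K h k) = cj K (g * h) k :=
  Subtype.ext (by simp only [coe_cj]; group)

theorem cj_one (k : K) : cj K 1 k = k := Subtype.ext (by simp only [coe_cj]; group)

end Aux

variable {K : Subgroup G} [K.Normal] [IsMulCommutative K]

theorem cj_self (k : G) (hk : k ∈ K) (l : K) : cj K k l = l := Subtype.ext (by
  rw [coe_cj, show k * (l : G) = l * k from congrArg Subtype.val (mul_comm' (⟨k, hk⟩ : K) l),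
    mul_inv_cancel_right])

open Classical in
/-- The `K`-component with respect to a complement `H`. -/
noncomputable def part (K H : Subgroup G) (g : G) : K :=
  if h : ∃ k : K, (k : G)⁻¹ * g ∈ H then h.choose else 1

theorem part_eq {H : Subgroup G} (hd : K ⊓ H = ⊥) {g : G} (k : K) (h : (k : G)⁻¹ * g ∈ H) :
    part K H g = k := by
  have hex : ∃ k : K, (k : G)⁻¹ * g ∈ H := ⟨k, h⟩
  rw [part, dif_pos hex]
  have h2 : (k : G)⁻¹ * (hex.choose : G) ∈ K ⊓ H := by
    refine ⟨K.mul_mem (K.inv_mem k.2) hex.choose.2, ?_⟩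
    have := H.mul_mem h (H.inv_mem hex.choose_spec)
    simpa [mul_assoc] using this
  rw [hd, Subgroup.mem_bot, inv_mul_eq_one] at h2
  exact Subtype.ext h2.symm

theorem part_spec {H : Subgroup G} {g : G} (h : ∃ k : K, (k : G)⁻¹ * g ∈ H) :
    ((part K H g : K) : G)⁻¹ * g ∈ H := by
  rw [part, dif_pos h]
  exact h.choose_spec

theorem part_of_mem {H : Subgroup G} (hd : K ⊓ H = ⊥) {g : G} (hg : g ∈ K) :
    part K H g = ⟨g, hg⟩ :=
  part_eq hd ⟨g, hg⟩ (by rw [inv_mul_cancel]; exact H.one_mem)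

theorem part_mul {H : Subgroup G} (hd : K ⊓ H = ⊥) {u v : G} (hu : ∃ k : K, (k : G)⁻¹ * u ∈ H)
    (hv : ∃ k : K, (k : G)⁻¹ * v ∈ H) :
    part K H (u * v) = part K H u * cj K u (part K H v) := by
  refine part_eq hd _ ?_
  set k := part K H u
  set l := part K H v
  have hk := part_spec hu
  have hl := part_spec hv
  have e : cj K u l = cj K ((k : G)⁻¹ * u) l := by
    rw [← cj_cj, cj_self ((k : G)⁻¹) (K.inv_mem k.2)]
  rw [e, Subgroup.coe_mul, coe_cj]
  have := H.mul_mem hk hl
  simp only [mul_assoc, mul_inv_rev, inv_inv, inv_mul_cancel_left, mul_inv_cancel_left] at this ⊢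
  exact this

/-- A complement in an intermediate subgroup of coprime index gives a complement. -/
theorem exists_complement [Finite G] {U A : Subgroup G} (hKU : K ≤ U)
    (hcop : (Nat.card K).Coprime U.index) (hAK : A ⊓ K = ⊥) (hKA : K ⊔ A = U) :
    ∃ H : Subgroup G, Subgroup.IsComplement' K H := by
  classical
  letI : CommGroup K := { (inferInstance : Group K) with mul_comm := mul_comm' }
  haveI := Fintype.ofFinite (G ⧸ U)
  have hd : K ⊓ A = ⊥ := by rw [inf_comm]; exact hAK
  have hU : ∀ u ∈ U, ∃ k : K, (k : G)⁻¹ * u ∈ A := fun u hu => by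
    rw [← hKA, Subgroup.mem_sup_of_normal_left] at hu
    obtain ⟨k, hk, a, ha, rfl⟩ := hu
    exact ⟨⟨k, hk⟩, by simpa using ha⟩
  let r : G ⧸ U → G := Quotient.out
  have hr : ∀ (g : G) (x : G ⧸ U), (r (g • x))⁻¹ * g * r x ∈ U := by
    intro g x
    rw [mul_assoc, ← QuotientGroup.eq]
    conv_rhs => rw [← smul_eq_mul, ← MulAction.Quotient.smul_mk]
    rw [QuotientGroup.out_eq', QuotientGroup.out_eq']
  let c : G → G ⧸ U → K := fun g x => cj K (r (g • x)) (part K A ((r (g • x))⁻¹ * g * r x))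
  let δ : G → K := fun g => ∏ x, c g x
  have hδ : ∀ g h : G, δ (g * h) = δ g * cj K g (δ h) := by
    intro g h
    have h1 : ∀ x, c (g * h) x = c g (h • x) * cj K g (c h x) := by
      intro x
      simp only [c]
      rw [mul_smul, show (r (g • h • x))⁻¹ * (g * h) * r x =
        ((r (g • h • x))⁻¹ * g * r (h • x)) * ((r (h • x))⁻¹ * h * r x) by group,
        part_mul hd (hU _ (hr g (h • x))) (hU _ (hr h x)), cj_mul, cj_cj, cj_cj]
      congr 2
      group
    have h2 : cj K g (δ h) = ∏ x, cj K g (c h x) :=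
      map_prod (MonoidHom.mk' (cj K g) (cj_mul K g)) _ _
    show ∏ x, c (g * h) x = _
    rw [h2, Finset.prod_congr rfl (fun x _ => h1 x), Finset.prod_mul_distrib]
    congr 1
    exact Fintype.prod_equiv (MulAction.toPerm h) _ _ fun x => rfl
  have hδK : ∀ k : K, δ k = k ^ U.index := by
    intro k
    have h1 : ∀ x, c k x = k := by
      intro x
      obtain ⟨t, rfl⟩ := QuotientGroup.mk_surjective x
      have hx : (k : G) • (t : G ⧸ U) = (t : G ⧸ U) := by
        rw [MulAction.Quotient.smul_mk, smul_eq_mul, QuotientGroup.eq]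
        refine hKU ?_
        rw [mul_inv_rev, mul_assoc]
        have := Subgroup.Normal.conj_mem (inferInstance : K.Normal) _ (K.inv_mem k.2) t⁻¹
        simpa [mul_assoc] using this
      simp only [c]
      rw [hx]
      have hm : (r (t : G ⧸ U))⁻¹ * k * r (t : G ⧸ U) ∈ K := by
        simpa using Subgroup.Normal.conj_mem (inferInstance : K.Normal) _ k.2 (r (t : G ⧸ U))⁻¹
      rw [part_of_mem hd hm]
      exact Subtype.ext (by rw [coe_cj]; group)
    show ∏ x, c k x = _
    rw [Finset.prod_congr rfl (fun x _ => h1 x), Finset.prod_const, Finset.card_univ, Subgroup.index,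
      Nat.card_eq_fintype_card]
  obtain ⟨m, hm⟩ : ∃ m : ℕ, ∀ k : K, (k ^ U.index) ^ m = k := by
    refine ⟨(Nat.gcdA U.index (Nat.card K) % (Nat.card K : ℤ)).toNat, fun k => ?_⟩
    have h0 : (0 : ℤ) ≤ Nat.gcdA U.index (Nat.card K) % (Nat.card K : ℤ) :=
      Int.emod_nonneg _ (by exact_mod_cast Nat.card_pos.ne')
    rw [← pow_mul, ← zpow_natCast]
    have h1 := Nat.gcd_eq_gcd_ab U.index (Nat.card K)
    rw [hcop.symm.gcd_eq_one] at h1
    have h2 : k ^ (Nat.card K : ℤ) = 1 := by rw [zpow_natCast, pow_card_eq_one']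
    push_cast
    rw [Int.toNat_of_nonneg h0, Int.emod_def, mul_sub, zpow_sub, ← mul_assoc,
      mul_comm ((U.index : ℤ)) (Nat.card K : ℤ), mul_assoc, zpow_mul k (Nat.card K : ℤ), h2, one_zpow,
      inv_one, mul_one,
      show (U.index : ℤ) * Nat.gcdA U.index (Nat.card K) = 1 - (Nat.card K : ℤ) * Nat.gcdB U.index (Nat.card K) by
        push_cast at h1; linarith,
      zpow_sub, zpow_one, zpow_mul, h2, one_zpow, inv_one, mul_one]
  have hcjpow : ∀ (g : G) (k : K) (n : ℕ), cj K g (k ^ n) = cj K g k ^ n := fun g k n =>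
    map_pow (MonoidHom.mk' (cj K g) (cj_mul K g)) k n
  let e : G → K := fun g => δ g ^ m
  have he : ∀ g h : G, e (g * h) = e g * cj K g (e h) := fun g h => by
    simp only [e]
    rw [hδ, mul_pow, hcjpow]
  have heK : ∀ k : K, e k = k := fun k => by simp only [e]; rw [hδK, hm]
  let H : Subgroup G :=
    { carrier := {g | e g = 1}
      one_mem' := heK 1
      mul_mem' := fun {a b} (ha : e a = 1) (hb : e b = 1) => by
        show e (a * b) = 1
        rw [he, ha, hb, one_mul]
        exact Subtype.ext (by rw [coe_cj]; simp)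
      inv_mem' := fun {a} (ha : e a = 1) => by
        show e a⁻¹ = 1
        have h1 := he a⁻¹ a
        rw [inv_mul_cancel, ha, show e 1 = 1 from heK 1] at h1
        have h2 : cj K a⁻¹ (1 : K) = 1 := Subtype.ext (by rw [coe_cj]; simp)
        rw [h2, mul_one] at h1
        exact h1.symm }
  refine ⟨H, Subgroup.isComplement'_of_disjoint_and_mul_eq_univ ?_ ?_⟩
  · rw [disjoint_iff, eq_bot_iff]
    rintro g ⟨hg, hg'⟩
    have h1 := heK ⟨g, hg⟩
    rw [show e g = 1 from hg'] at h1
    rw [Subgroup.mem_bot]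
    exact congrArg Subtype.val h1.symm
  · refine Set.eq_univ_of_forall fun g => ⟨e g, (e g).2, (e g : G)⁻¹ * g, ?_, mul_inv_cancel_left _ _⟩
    show e ((e g : G)⁻¹ * g) = 1
    rw [he, cj_self _ (K.inv_mem (e g).2), ← Subgroup.coe_inv, heK, inv_mul_cancel]

/-- Complements agreeing on an intermediate subgroup of coprime index are conjugate. -/
theorem exists_conj [Finite G] {U H₀ H₁ : Subgroup G} (hKU : K ≤ U)
    (hcop : (Nat.card K).Coprime U.index) (h₀ : Subgroup.IsComplement' K H₀)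
    (h₁ : Subgroup.IsComplement' K H₁) (hU : H₀ ⊓ U = H₁ ⊓ U) :
    ∃ g : G, MulAut.conj g • H₀ = H₁ := by
  classical
  letI : CommGroup K := { (inferInstance : Group K) with mul_comm := mul_comm' }
  haveI := Fintype.ofFinite (G ⧸ U)
  have hd₀ : K ⊓ H₀ = ⊥ := h₀.disjoint.eq_bot
  have hd₁ : K ⊓ H₁ = ⊥ := h₁.disjoint.eq_bot
  have hall : ∀ {H : Subgroup G}, Subgroup.IsComplement' K H → ∀ g : G, ∃ k : K, (k : G)⁻¹ * g ∈ H := by
    intro H h g
    obtain ⟨⟨k, x⟩, hk⟩ := h.2 g
    exact ⟨k, by rw [← hk]; simp⟩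
  let d : G → K := fun g => part K H₁ g * (part K H₀ g)⁻¹
  have hcjinv : ∀ (g : G) (k : K), cj K g k⁻¹ = (cj K g k)⁻¹ := fun g k =>
    map_inv (MonoidHom.mk' (cj K g) (cj_mul K g)) k
  have hd : ∀ g h : G, d (g * h) = d g * cj K g (d h) := fun g h => by
    simp only [d]
    rw [part_mul hd₁ (hall h₁ g) (hall h₁ h), part_mul hd₀ (hall h₀ g) (hall h₀ h), mul_inv,
      cj_mul, hcjinv]
    exact mul_mul_mul_comm _ _ _ _
  have hdU : ∀ u ∈ U, d u = 1 := by
    intro u hu
    have h := part_spec (hall h₀ u)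
    have h2 : ((part K H₀ u : K) : G)⁻¹ * u ∈ H₀ ⊓ U :=
      ⟨h, U.mul_mem (U.inv_mem (hKU (part K H₀ u).2)) hu⟩
    rw [hU] at h2
    simp only [d]
    rw [part_eq hd₁ _ h2.1, mul_inv_cancel]
  have hcoset : ∀ g u : G, u ∈ U → d (g * u) = d g := fun g u hu => by
    rw [hd, hdU u hu, show cj K g (1 : K) = 1 from Subtype.ext (by rw [coe_cj]; simp), mul_one]
  have hwell : ∀ g h : G, (g : G ⧸ U) = (h : G ⧸ U) → d g = d h := fun g h e => by
    have := hcoset g _ (QuotientGroup.eq.mp e)
    rw [mul_inv_cancel_left] at this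
    exact this.symm
  set w : K := ∏ x : G ⧸ U, d x.out with hw
  have hwg : ∀ g : G, w = d g ^ U.index * cj K g w := by
    intro g
    have h1 : ∀ x : G ⧸ U, d (g • x).out = d g * cj K g (d x.out) := fun x => by
      rw [← hd]
      refine hwell _ _ ?_
      rw [QuotientGroup.out_eq', ← smul_eq_mul, ← MulAction.Quotient.smul_mk, QuotientGroup.out_eq']
    have h2 : cj K g w = ∏ x : G ⧸ U, cj K g (d x.out) :=
      map_prod (MonoidHom.mk' (cj K g) (cj_mul K g)) _ _
    rw [h2, Subgroup.index, Nat.card_eq_fintype_card, ← Finset.card_univ, ← Finset.prod_const,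
      ← Finset.prod_mul_distrib, hw]
    exact (Fintype.prod_equiv (MulAction.toPerm g) _ _ fun x => (h1 x).symm).symm
  obtain ⟨c, hc⟩ := (powCoprime (G := K) hcop).surjective w
  have hc' : c ^ U.index = w := hc
  have hdc : ∀ g : G, d g = c * (cj K g c)⁻¹ := by
    intro g
    have hinj := (powCoprime (G := K) hcop).injective
    refine hinj ?_
    show d g ^ U.index = (c * (cj K g c)⁻¹) ^ U.index
    have h2 : cj K g c ^ U.index = cj K g w := by
      rw [← hc']
      exact (map_pow (MonoidHom.mk' (cj K g) (cj_mul K g)) c U.index).symm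
    conv_rhs => rw [mul_pow, inv_pow, h2, hc']
    rw [eq_mul_inv_iff_mul_eq]
    exact (hwg g).symm
  refine ⟨((c : K) : G)⁻¹, ?_⟩
  ext g
  rw [Subgroup.mem_pointwise_smul_iff_inv_smul_mem, ← map_inv, inv_inv, MulAut.smul_def, MulAut.conj_apply]
  have hiff : ∀ {H : Subgroup G}, Subgroup.IsComplement' K H → K ⊓ H = ⊥ → ∀ x : G,
      x ∈ H ↔ part K H x = 1 := by
    intro H h hd' x
    refine ⟨fun hx => part_eq hd' 1 (by simpa using hx), fun hx => ?_⟩
    have := part_spec (hall h x)
    rw [hx] at this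
    simpa using this
  rw [hiff h₀ hd₀, hiff h₁ hd₁]
  have key : part K H₀ ((c : G) * g * (c : G)⁻¹) = part K H₁ g := by
    rw [part_mul hd₀ (hall h₀ _) (hall h₀ _), part_mul hd₀ (hall h₀ _) (hall h₀ _),
      part_of_mem hd₀ c.2, part_of_mem hd₀ (K.inv_mem c.2), cj_self _ c.2,
      ← cj_cj, cj_self _ c.2]
    have h := hdc g
    simp only [d] at h
    rw [mul_inv_eq_iff_eq_mul] at h
    rw [h, show (⟨(c : G)⁻¹, K.inv_mem c.2⟩ : K) = c⁻¹ from rfl, hcjinv, show (⟨(c : G), c.2⟩ : K) = c from rfl]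
    exact mul_right_comm _ _ _
  rw [key]

end CfsgLib.Gaschutz
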